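import Cfsg.Agent.Lib.ThreeTransp.SolLink.Data.Five
import Cfsg.Agent.Lib.ThreeTransp.SolLink.Data.Four
import Cfsg.Agent.Lib.ThreeTransp.SolLink.Data.Six
import Cfsg.Agent.Lib.ThreeTransp.Affine54

/-!
The relations for the three identifications, and the orders they force.
-/

set_option autoImplicit false
set_option maxRecDepth 100000

namespace CfsgLib.ThreeTransp.SolLink

open CosetCert

variable {M : Type*} [Group M]

/-- Relations of `a, b, c, a', z` for `PSU(5, 2)`. -/
structure RelFive (e : ℕ → M) : Prop where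
  sq : ∀ g, e g * e g = 1
  affine : Affine54.Rels (e 0) (e 1) (e 2)
  mid : ∀ w ∈ relFiveMid.map hWord, act e w = 1
  top : ∀ w ∈ relFiveTop.map hWord ++ zFive, act e w = 1

/-- Relations of `a, b, a', a'', z, x, a'''` for `PSU(4, 2)`. -/
structure RelFour (e : ℕ → M) : Prop where
  sq : ∀ g, e g * e g = 1
  mid : ∀ w ∈ relFourMid.map hWord, act e w = 1
  top : ∀ w ∈ relFourTop.map hWord ++ pairFour.map (fun q => pw [q.1, q.2.1] q.2.2) ++ zFour, act e w = 1

/-- The Coxeter relations of a chain of five. -/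
structure RelSix (e : ℕ → M) : Prop where
  sq : ∀ g, e g * e g = 1
  top : ∀ w ∈ pairSix.map (fun q => pw [q.1, q.2.1] q.2.2), act e w = 1

theorem data_facts : (0 < dataFiveMid.n ∧ 0 < dataFiveTop.n ∧ 0 < dataFourMid.n ∧ 0 < dataFourTop.n ∧
    0 < dataSix.n) ∧
    dataFiveMid.subs = [[0], [1], [2]] ∧ dataFiveTop.subs = [[0], [1], [2], [3]] ∧
    dataFourMid.subs = [] ∧ dataFourTop.subs = [[0], [1], [2], [3]] ∧ dataSix.subs = [] := by
  simp [dataFiveMid, dataFiveTop, dataFourMid, dataFourTop, dataSix]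

theorem data_sizes : dataFiveMid.n = 128 ∧ dataFiveTop.n = 1980 ∧ dataFiveTop.ng = 5 ∧ dataFiveMid.ng = 4 ∧
    dataFourMid.n = 192 ∧ dataFourMid.ng = 4 ∧ dataFourTop.n = 135 ∧ dataFourTop.ng = 7 ∧
    dataSix.n = 720 ∧ dataSix.ng = 5 :=
  ⟨rfl, rfl, rfl, rfl, rfl, rfl, rfl, rfl, rfl, rfl⟩

theorem data_rels' : dataFiveMid.rels = relFiveMid.map hWord ∧ dataFiveTop.rels = relFiveTop.map hWord ++ zFive ∧
    dataFourMid.rels = relFourMid.map hWord ∧
    dataFourTop.rels = relFourTop.map hWord ++ pairFour.map (fun q => pw [q.1, q.2.1] q.2.2) ++ zFour ∧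
    dataSix.rels = pairSix.map (fun q => pw [q.1, q.2.1] q.2.2) :=
  ⟨rfl, rfl, rfl, rfl, rfl⟩

theorem data_iv (g : ℕ) : dataFiveMid.iv g = g ∧ dataFiveTop.iv g = g ∧ dataFourMid.iv g = g ∧
    dataFourTop.iv g = g ∧ dataSix.iv g = g :=
  ⟨rfl, rfl, rfl, rfl, rfl⟩

attribute [local irreducible] dataFiveMid dataFiveTop dataFourMid dataFourTop dataSix relFiveMid relFiveTop
  relFourMid relFourTop zFive zFour pairFour pairSix

variable [Finite M] {e : ℕ → M}

theorem RelFive.card_le (h : RelFive e) :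
    Nat.card ↥(Subgroup.closure (e '' {g | g < 5})) ≤ 13685760 := by
  obtain ⟨⟨hn, hn', -, -, -⟩, hs, hs', -, -, -⟩ := data_facts
  obtain ⟨n1, n2, g2, g1, -⟩ := data_sizes
  obtain ⟨r1, r2, -⟩ := data_rels'
  have h3 : Nat.card ↥(Subgroup.closure ({e 0, e 1, e 2} : Set M)) ≤ 54 :=
    le_of_eq_of_le (Nat.card_coe_set_eq _) (Affine54.closure_le_54 h.affine).2
  have k4 := card_closure_le (e := e) (Subgroup.closure ({e 0, e 1, e 2} : Set M)) checkFiveMid hn
    (fun g => (data_iv g).1) h.sq (r1.symm ▸ h.mid) fun w hw => by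
      rw [hs] at hw
      simp only [List.mem_cons, List.not_mem_nil, or_false] at hw
      rcases hw with rfl | rfl | rfl <;> rw [act_singleton] <;> exact Subgroup.subset_closure (by simp)
  have k5 := card_closure_le (e := e) (Subgroup.closure (e '' {g | g < 4})) checkFiveTop hn'
    (fun g => (data_iv g).2.1) h.sq (r2.symm ▸ h.top) fun w hw => by
      rw [hs'] at hw
      simp only [List.mem_cons, List.not_mem_nil, or_false] at hw
      rcases hw with rfl | rfl | rfl | rfl <;> rw [act_singleton] <;>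
        exact Subgroup.subset_closure (Set.mem_image_of_mem e (by norm_num))
  rw [n1, g1] at k4
  rw [n2, g2] at k5
  omega

theorem RelFour.card_le (h : RelFour e) :
    Nat.card ↥(Subgroup.closure (e '' {g | g < 7})) ≤ 25920 := by
  obtain ⟨⟨-, -, hn, hn', -⟩, -, -, hs, hs', -⟩ := data_facts
  obtain ⟨-, -, -, -, n1, g1, n2, g2, -⟩ := data_sizes
  obtain ⟨-, -, r1, r2, -⟩ := data_rels'
  have k4 := card_closure_le (e := e) (⊥ : Subgroup M) checkFourMid hn (fun g => (data_iv g).2.2.1) h.sq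
    (r1.symm ▸ h.mid) fun w hw => by
      rw [hs] at hw; cases hw
  have k5 := card_closure_le (e := e) (Subgroup.closure (e '' {g | g < 4})) checkFourTop hn'
    (fun g => (data_iv g).2.2.2.1) h.sq (r2.symm ▸ h.top) fun w hw => by
      rw [hs'] at hw
      simp only [List.mem_cons, List.not_mem_nil, or_false] at hw
      rcases hw with rfl | rfl | rfl | rfl <;> rw [act_singleton] <;>
        exact Subgroup.subset_closure (Set.mem_image_of_mem e (by norm_num))
  rw [n1, g1, Subgroup.card_bot] at k4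
  rw [n2, g2] at k5
  omega

theorem RelSix.card_le (h : RelSix e) :
    Nat.card ↥(Subgroup.closure (e '' {g | g < 5})) ≤ 720 := by
  obtain ⟨⟨-, -, -, -, hn⟩, -, -, -, -, hs⟩ := data_facts
  obtain ⟨-, -, -, -, -, -, -, -, n1, g1⟩ := data_sizes
  have k := card_closure_le (e := e) (⊥ : Subgroup M) checkSix hn (fun g => (data_iv g).2.2.2.2) h.sq
    (data_rels'.2.2.2.2.symm ▸ h.top) fun w hw => by
      rw [hs] at hw; cases hw
  rw [n1, g1, Subgroup.card_bot] at k
  omega

end CfsgLib.ThreeTransp.SolLink
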