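import Cfsg.Agent.Lib.ThreeTransp.SolLink.Ident.Defs
import Cfsg.Agent.Lib.ThreeTransp.SolLink.Ident.ModelData
import Cfsg.Agent.Lib.Presentations.SUPres.TwoField
import Cfsg.Agent.Lib.Presentations.SUPres.Cert
import Cfsg.Agent.Lib.ThreeTransp.SURadical.Points
import Cfsg.Agent.Lib.Classical.UnitaryPSU
import Cfsg.Agent.Lib.Classical.HermOrder
import Cfsg.Agent.Lib.ThreeTransp.Fischer

/-!
The models `PSU(5, 2)`, `PSU(4, 2)`, `Perm (Fin 6)` and the identifications from the relations.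
-/

set_option autoImplicit false
set_option maxRecDepth 100000

universe u

namespace CfsgLib.ThreeTransp.SolLink

open CosetCert Cfsg

namespace Model

open CfsgLib.Presentations.SUPres CfsgLib.Presentations.SUPres.Two CfsgLib.SURadical

variable {F : Type} [Field F] {φ : ℕ → F} (hK : K4.Ok φ) {N : ℕ}
include hK

theorem cform_spec (y v : ℕ) :
    cform N y v < 4 ∧ φ (cform N y v) = hermForm N F 2 (K4.dec φ N y) (K4.dec φ N v) := by
  obtain ⟨h1, h2⟩ := Code.foldr_add hK
    (List.ofFn fun i : Fin N => K4.mul (K4.dig y i) (K4.mul (K4.dig v i) (K4.dig v i))) fun d hd => by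
      obtain ⟨j, rfl⟩ := List.mem_ofFn.1 hd
      exact hK.mullt _ _
  refine ⟨h1, ?_⟩
  rw [cform, h2, List.map_ofFn, List.sum_ofFn, hermForm]
  refine Finset.sum_congr rfl fun i _ => ?_
  show φ (K4.mul _ _) = _
  rw [hK.hmul _ _ (Code.dig_lt hK _ _) (hK.mullt _ _),
    hK.hmul _ _ (Code.dig_lt hK _ _) (Code.dig_lt hK _ _), pow_two]
  rfl

theorem dec_axpy {c : ℕ} (hc : c < 4) (v y : ℕ) :
    K4.dec φ N (axpy N c v y) = K4.dec φ N y + φ c • K4.dec φ N v := by
  funext i
  show φ (K4.dig (axpy N c v y) i) = φ (K4.dig y i) + φ c • φ (K4.dig v i)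
  rw [axpy, Code.dig_enc hK.pos _ _ (fun d hd => by
    obtain ⟨j, rfl⟩ := List.mem_ofFn.1 hd
    exact hK.addlt _ _), List.getD_eq_getElem _ _ (by simp), List.getElem_ofFn,
    hK.hadd _ _ (Code.dig_lt hK _ _) (hK.mullt _ _), hK.hmul _ _ hc (Code.dig_lt hK _ _), smul_eq_mul]

theorem dec_zero : K4.dec φ N 0 = 0 := by
  funext i
  show φ (K4.dig 0 i) = 0
  simp [Code.dig, hK.zero]

theorem exists_code [Fintype F] (hs : ∀ a : F, ∃ k, k < 4 ∧ φ k = a) (y : Fin N → F) :
    ∃ c, c < 4 ^ N ∧ K4.dec φ N c = y := by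
  choose k hk he using hs
  refine ⟨K4.enc (List.ofFn fun i => k (y i)), ?_, funext fun i => ?_⟩
  · have := Code.enc_lt (K := K4) hK.pos (List.ofFn fun i => k (y i)) fun d hd => by
      obtain ⟨j, rfl⟩ := List.mem_ofFn.1 hd
      exact hk _
    simpa using this
  · show φ (K4.dig _ _) = _
    rw [Code.dig_enc hK.pos _ _ (fun d hd => by
      obtain ⟨j, rfl⟩ := List.mem_ofFn.1 hd
      exact hk _), List.getD_eq_getElem _ _ (by simp), List.getElem_ofFn]
    exact he _

variable {n : ℕ} {vs : ℕ → ℕ} {x : ℕ → SU N F 2}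

theorem act_fold (hx : ∀ g, IsPt (x g) (K4.dec φ N (vs (cl n g)))) :
    ∀ (w : List ℕ) (y : ℕ), PSUAut.act (CosetCert.act x w) (K4.dec φ N y) =
      K4.dec φ N (vfold N (fun g => vs (cl n g)) w y)
  | [], y => by rw [CosetCert.act_nil, PSUAut.act_one]; rfl
  | g :: w, y => by
    rw [CosetCert.act_cons, PSUAut.act_mul, (hx g).2]
    obtain ⟨hlt, hval⟩ := cform_spec hK (N := N) y (vs (cl n g))
    rw [← hval, ← dec_axpy hK hlt]
    exact act_fold hx w (tStep N (vs (cl n g)) y)

theorem act_eq_one (hx : ∀ g, IsPt (x g) (K4.dec φ N (vs (cl n g)))) {L : List (List ℕ)}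
    (hL : wordsOk N n vs L = true) {w : List ℕ} (hw : w ∈ L) : CosetCert.act x w = 1 := by
  simp only [wordsOk, List.all_eq_true, List.mem_range, Nat.beq_eq] at hL
  refine Subtype.ext (Subtype.ext (Matrix.ext_of_mulVec_single fun j => ?_))
  show PSUAut.act (CosetCert.act x w) (Pi.single j 1) = PSUAut.act (1 : SU N F 2) (Pi.single j 1)
  have e : (Pi.single j 1 : Fin N → F) = K4.dec φ N (K4.bas N j) := by
    rw [Code.dec_bas hK]
    funext i
    simp [Pi.single_apply, Chev.CT.Phan.ev, Fin.ext_iff]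
  rw [e, act_fold hK hx, hL w hw j j.isLt, PSUAut.act_one]

omit hK in
/-- A model of the relations generating a simple unitary group. -/
theorem exists_model {N n : ℕ} {vs : ℕ → ℕ} {g₁ : ℕ} {word : ℕ → List ℕ} {L : List (List ℕ)}
    (hc : centresOk N n vs g₁ = true) (hL : wordsOk N n vs L = true) (ho : orbitOk N n vs word = true)
    [Fintype F] (hF : Fintype.card F = 4) [IsSimpleGroup (PSU N F 2)] :
    ∃ m : ℕ → PSU N F 2, (∀ g, m g * m g = 1) ∧ (∀ w ∈ L, CosetCert.act m w = 1) ∧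
      Subgroup.closure (m '' {g | g < n}) = ⊤ := by
  have hF2 : Fintype.card F = 2 ^ 2 := by rw [hF]; norm_num
  obtain ⟨U⟩ := Chev.CT.Phan.UF.of_card (F := F) hF2
  obtain ⟨R⟩ := exists_root U hF
  have hK := R.code_ok hF
  simp only [centresOk, List.all_eq_true, List.mem_range, Bool.and_eq_true, Nat.beq_eq,
    Nat.blt_eq] at hc
  obtain ⟨⟨hv, hg₁⟩, hne⟩ := hc
  have hcl : ∀ g, cl n g < n := fun g => by
    unfold cl; split_ifs <;> omega
  have hiso : ∀ g, PSUAut.Isot 2 (K4.dec (val R.z) N (vs (cl n g))) := fun g => by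
    obtain ⟨⟨h1, h2⟩, h3⟩ := hv _ (hcl g)
    refine ⟨fun h => ?_, ?_⟩
    · rw [← dec_zero hK] at h
      have := Code.dec_inj hK h1 (by positivity) h
      omega
    · rw [← (cform_spec hK _ _).2, h3, hK.zero]
  choose x hx using fun g => SURadical.exists_pt hF2 (hiso g)
  let π : SU N F 2 →* PSU N F 2 := QuotientGroup.mk' _
  have hact : ∀ w, CosetCert.act (π ∘ x) w = π (CosetCert.act x w) := fun w =>
    (map_act π x w).symm
  refine ⟨π ∘ x, fun g => by simp only [Function.comp_apply]; rw [← map_mul, (hx g).mul_self hF2, map_one],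
    fun w hw => by rw [hact, act_eq_one hK hx hL hw, map_one], ?_⟩
  have hxm : ∀ g, π (x g) ∈ Subgroup.closure ((π ∘ x) '' {g | g < n}) := fun g => by
    refine Subgroup.subset_closure ⟨cl n g, hcl g, ?_⟩
    show π (x (cl n g)) = π (x g)
    have e : cl n (cl n g) = cl n g := if_pos (hcl g)
    exact congrArg π ((hx (cl n g)).unique hF2 (e.symm ▸ hx g))
  have e0 : cl n 0 = 0 := by unfold cl; split_ifs <;> rfl
  have hx0 : IsPt (x 0) (K4.dec (val R.z) N (vs 0)) := by have := hx 0; rwa [e0] at this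
  have hx1 : π (x 0) ≠ 1 := by
    intro h
    rw [QuotientGroup.mk'_apply, QuotientGroup.eq_one_iff, Subgroup.mem_center_iff] at h
    have hc1 : Commute (x 0) (x g₁) := (h (x g₁)).symm
    have hx1' : IsPt (x g₁) (K4.dec (val R.z) N (vs g₁)) := by
      have := hx g₁; rwa [show cl n g₁ = g₁ from if_pos hg₁] at this
    rw [hx0.commute_iff hF2 hx1', ← (cform_spec hK _ _).2, ← hK.zero] at hc1
    have := hK.inj _ _ (cform_spec hK _ _).1 (by norm_num) hc1
    omega
  have htop : Subgroup.normalClosure ({π (x 0)} : Set (PSU N F 2)) = ⊤ :=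
    (IsSimpleGroup.eq_bot_or_eq_top_of_normal _ Subgroup.normalClosure_normal).resolve_left fun h =>
      hx1 ((Subgroup.mem_bot).1 (h ▸ Subgroup.subset_normalClosure (Set.mem_singleton _)))
  rw [eq_top_iff, ← htop]
  refine (Subgroup.closure_le _).2 fun z hz => ?_
  obtain ⟨a, ha, hz⟩ := Group.mem_conjugatesOfSet_iff.1 hz
  rw [Set.mem_singleton_iff] at ha
  obtain ⟨g, rfl⟩ := isConj_iff.1 (ha ▸ hz)
  obtain ⟨g, rfl⟩ := QuotientGroup.mk'_surjective _ g
  obtain ⟨c, hc4, hc⟩ := exists_code hK (R.val_surj hF) (PSUAut.act g (K4.dec (val R.z) N (vs 0)))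
  have hy := hx0.conj g
  rw [← hc] at hy
  have hc0 : c ≠ 0 := fun h => hy.1.1 (by rw [h, dec_zero hK])
  have hcc : cform N c c = 0 := hK.inj _ _ (cform_spec hK _ _).1 (by norm_num)
    (by rw [(cform_spec hK _ _).2, hy.1.2, hK.zero])
  simp only [orbitOk, List.all_eq_true, List.mem_range, List.any_eq_true, Bool.or_eq_true,
    Bool.not_eq_true', Bool.eq_false_iff, ne_eq, Nat.beq_eq] at ho
  obtain ⟨k, hk, hke⟩ := ((ho c hc4).resolve_left (by simp [hc0, hcc]))
  have hk' : k < 4 ∧ k ≠ 0 := by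
    simp only [List.mem_cons, List.not_mem_nil, or_false] at hk
    omega
  have hconj := hx0.conj (CosetCert.act x (word c))
  rw [act_fold hK hx, hke, dec_axpy hK hk'.1, dec_zero hK, zero_add] at hconj
  have hk0 : val R.z k ≠ 0 := fun h => hk'.2 (hK.inj _ _ hk'.1 (by norm_num) (h.trans hK.zero.symm))
  have heq := (hy.smul hF2 hk0).unique hF2 hconj
  show π g * π (x 0) * (π g)⁻¹ ∈ _
  rw [← map_inv, ← map_mul, ← map_mul, heq, map_mul, map_mul, map_inv]
  have hword : π (CosetCert.act x (word c)) ∈ Subgroup.closure ((π ∘ x) '' {g | g < n}) := by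
    rw [← hact]
    exact act_mem _ _ _ fun g _ => hxm g
  exact mul_mem (mul_mem hword (hxm 0)) (inv_mem hword)

end Model

/-! ## From relations on pairs to homomorphisms -/

section Graph

variable {G T : Type*} [Group G] [Group T]

theorem exists_hom_of_pairs [Finite G] [Finite T] {n : ℕ} {e : ℕ → G} {m : ℕ → T}
    (hG : Subgroup.closure (e '' {g | g < n}) = ⊤) (hT : Subgroup.closure (m '' {g | g < n}) = ⊤)
    (hb : Nat.card ↥(Subgroup.closure ((fun g => (m g, e g)) '' {g | g < n})) ≤ Nat.card T) :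
    ∃ Ψ : T →* G, Function.Surjective Ψ := by
  set K := Subgroup.closure ((fun g => (m g, e g)) '' {g | g < n}) with hK
  have h1 : K.map (MonoidHom.fst T G) = ⊤ := by
    rw [hK, MonoidHom.map_closure, ← Set.image_comp]; exact hT
  have hsurj : ∀ t : T, ∃ z ∈ K, z.1 = t := fun t => (show t ∈ K.map (MonoidHom.fst T G) by simp [h1])
  let f : K →* T := (MonoidHom.fst T G).comp K.subtype
  have hf : Function.Surjective f := fun t => by
    obtain ⟨z, hz, rfl⟩ := hsurj t
    exact ⟨⟨z, hz⟩, rfl⟩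
  have hbij : Function.Bijective f :=
    (Nat.bijective_iff_surjective_and_card f).2 ⟨hf, le_antisymm hb (Nat.card_le_card_of_surjective f hf)⟩
  obtain ⟨Ψ, hΨ⟩ := Presentations.SUPres.hom_of_graph K (fun z hz h => by
    simpa using hbij.1 (show f ⟨z, hz⟩ = f 1 by rw [map_one]; exact h)) hsurj
  refine ⟨Ψ, MonoidHom.range_eq_top.1 (eq_top_iff.2 ?_)⟩
  rw [← hG, Subgroup.closure_le]
  rintro _ ⟨g, hg, rfl⟩
  exact ⟨m g, hΨ _ (Subgroup.subset_closure ⟨g, hg, rfl⟩)⟩

theorem act_prod (e : ℕ → G) (m : ℕ → T) (w : List ℕ) :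
    act (fun g => (m g, e g)) w = (act m w, act e w) :=
  Prod.ext (Presentations.SUPres.map_act (MonoidHom.fst T G) _ w)
    (Presentations.SUPres.map_act (MonoidHom.snd T G) _ w)

theorem act_prod_one {e : ℕ → G} {m : ℕ → T} {w : List ℕ} (h1 : act m w = 1) (h2 : act e w = 1) :
    act (fun g => (m g, e g)) w = 1 := by rw [act_prod, h1, h2]; rfl

end Graph

theorem affine_of_words {M : Type*} [Group M] {e : ℕ → M} (he : ∀ g, e g * e g = 1)
    (h10 : act e (pw [1, 0] 3) = 1) (h20 : act e (pw [2, 0] 3) = 1) (h21 : act e (pw [2, 1] 3) = 1)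
    (hc : act e (pw (cword 2 [1] ++ [0]) 3) = 1) : Affine54.Rels (e 0) (e 1) (e 2) := by
  refine ⟨he 0, he 1, he 2, ?_, ?_, ?_, ?_⟩
  · rw [← act_pair]; exact h10
  · rw [← act_pair]; exact h20
  · rw [← act_pair]; exact h21
  · rwa [act_pw, act_append, act_singleton, act_cword he, act_singleton,
      inv_eq_of_mul_eq_one_right (he 1)] at hc

theorem affine_words {M : Type*} [Group M] {e : ℕ → M} (he : ∀ g, e g * e g = 1)
    (h : Affine54.Rels (e 0) (e 1) (e 2)) {w : List ℕ}
    (hw : w ∈ [pw [1, 0] 3, pw [2, 0] 3, pw [2, 1] 3, pw (cword 2 [1] ++ [0]) 3]) : act e w = 1 := by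
  simp only [List.mem_cons, List.not_mem_nil, or_false] at hw
  rcases hw with rfl | rfl | rfl | rfl
  · rw [act_pair]; exact h.de
  · rw [act_pair]; exact h.df
  · rw [act_pair]; exact h.ef
  · rw [act_pw, act_append, act_singleton, act_cword he, act_singleton,
      inv_eq_of_mul_eq_one_right (he 1)]
    exact h.cross

variable {G : Type u} [Group G] [Finite G] {e : ℕ → G}

open Model in
/-- The identification with `PSU(5, 2)`. -/
theorem five_iso [Nontrivial G] (h : RelFive e) (htop : Subgroup.closure (e '' {g | g < 5}) = ⊤)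
    (F : Type) [Field F] [Fintype F] (hF : Fintype.card F = 4) : Nonempty (G ≃* PSU 5 F 2) := by
  have hF2 : Fintype.card F = 2 ^ 2 := by rw [hF]; norm_num
  haveI := CfsgLib.Classical.Unitary.isSimpleGroup_PSU (n := 5) hF2 (by norm_num) (by norm_num)
  haveI : Finite (PSU 5 F 2) := inferInstance
  obtain ⟨m, hsq, hrel, hmtop⟩ := exists_model centresFive relsFive_ok orbitFive hF
  have hm : ∀ w, w ∈ relFiveMid.map hWord ++ (relFiveTop.map hWord ++ zFive) ++
      [pw [1, 0] 3, pw [2, 0] 3, pw [2, 1] 3, pw (cword 2 [1] ++ [0]) 3] → act m w = 1 := hrel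
  have hsq' : ∀ g, (m g, e g) * (m g, e g) = 1 := fun g => Prod.ext (hsq g) (h.sq g)
  have hrel' : RelFive fun g => (m g, e g) := by
    refine ⟨hsq', ?_, fun w hw => act_prod_one ?_ (h.mid w hw), fun w hw => act_prod_one ?_ (h.top w hw)⟩
    · refine affine_of_words hsq' ?_ ?_ ?_ ?_ <;>
        refine act_prod_one (hm _ (List.mem_append.2 (Or.inr ?_))) (affine_words h.sq h.affine ?_) <;> simp
    · exact hm w (List.mem_append.2 (Or.inl (List.mem_append.2 (Or.inl hw))))
    · exact hm w (List.mem_append.2 (Or.inl (List.mem_append.2 (Or.inr hw))))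
  have hcard : 13685760 ≤ Nat.card (PSU 5 F 2) := by
    have h1 := CfsgLib.Classical.card_su (n := 5) hF2 (by norm_num)
    rw [Subgroup.card_eq_card_quotient_mul_card_subgroup (Subgroup.center (SU 5 F 2)),
      CfsgLib.Classical.card_center_su hF2 (by norm_num)] at h1
    norm_num [CfsgLib.Classical.unitaryOrder, Finset.prod_range_succ, Nat.even_iff] at h1
    change 13685760 ≤ Nat.card (SU 5 F 2 ⧸ Subgroup.center (SU 5 F 2))
    omega
  obtain ⟨Ψ, hΨ⟩ := exists_hom_of_pairs htop hmtop (hrel'.card_le.trans hcard)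
  exact ⟨(MulEquiv.ofBijective Ψ ⟨hom_injective Ψ hΨ, hΨ⟩).symm⟩
where
  hom_injective {T : Type} [Group T] [IsSimpleGroup T] (Ψ : T →* G) (hΨ : Function.Surjective Ψ) :
      Function.Injective Ψ :=
    (MonoidHom.ker_eq_bot_iff Ψ).1 <|
      (IsSimpleGroup.eq_bot_or_eq_top_of_normal Ψ.ker inferInstance).resolve_right fun hk => by
        obtain ⟨a, ha⟩ := exists_ne (1 : G)
        obtain ⟨t, rfl⟩ := hΨ a
        exact ha (MonoidHom.mem_ker.1 (hk ▸ Subgroup.mem_top t))

open Model in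
/-- The identification with `PSU(4, 2)`. -/
theorem four_iso [Nontrivial G] (h : RelFour e) (htop : Subgroup.closure (e '' {g | g < 7}) = ⊤)
    (F : Type) [Field F] [Fintype F] (hF : Fintype.card F = 4) : Nonempty (G ≃* PSU 4 F 2) := by
  have hF2 : Fintype.card F = 2 ^ 2 := by rw [hF]; norm_num
  haveI := CfsgLib.Classical.Unitary.isSimpleGroup_PSU (n := 4) hF2 (by norm_num) (by norm_num)
  obtain ⟨m, hsq, hrel, hmtop⟩ := exists_model centresFour relsFour_ok orbitFour hF
  have hm : ∀ w, w ∈ relFourMid.map hWord ++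
      (relFourTop.map hWord ++ pairFour.map (fun q => pw [q.1, q.2.1] q.2.2) ++ zFour) → act m w = 1 := hrel
  have hsq' : ∀ g, (m g, e g) * (m g, e g) = 1 := fun g => Prod.ext (hsq g) (h.sq g)
  have hrel' : RelFour fun g => (m g, e g) :=
    ⟨hsq', fun w hw => act_prod_one (hm w (List.mem_append.2 (Or.inl hw))) (h.mid w hw),
      fun w hw => act_prod_one (hm w (List.mem_append.2 (Or.inr hw))) (h.top w hw)⟩
  have hcard : 25920 ≤ Nat.card (PSU 4 F 2) := by
    have h1 := CfsgLib.Classical.card_su (n := 4) hF2 (by norm_num)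
    rw [Subgroup.card_eq_card_quotient_mul_card_subgroup (Subgroup.center (SU 4 F 2)),
      CfsgLib.Classical.card_center_su hF2 (by norm_num)] at h1
    norm_num [CfsgLib.Classical.unitaryOrder, Finset.prod_range_succ, Nat.even_iff] at h1
    change 25920 ≤ Nat.card (SU 4 F 2 ⧸ Subgroup.center (SU 4 F 2))
    omega
  obtain ⟨Ψ, hΨ⟩ := exists_hom_of_pairs htop hmtop (hrel'.card_le.trans hcard)
  exact ⟨(MulEquiv.ofBijective Ψ ⟨five_iso.hom_injective Ψ hΨ, hΨ⟩).symm⟩

/-- Adjacent transpositions. -/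
def sixGen (g : ℕ) : Equiv.Perm (Fin 6) :=
  if hg : g < 5 then Equiv.swap (⟨g, by omega⟩ : Fin 6) ⟨g + 1, by omega⟩ else Equiv.swap 0 1

theorem sixGen_rels : ∀ w ∈ pairSix.map (fun q => pw [q.1, q.2.1] q.2.2), act sixGen w = 1 := by
  decide +kernel

/-- The identification with the symmetric group of degree six. -/
theorem six_iso [Nontrivial G] (hsol : ∀ N : Subgroup G, N.Normal → Group.IsSolvable N → N = ⊥)
    (h : RelSix e) (htop : Subgroup.closure (e '' {g | g < 5}) = ⊤) :
    Nonempty (G ≃* Equiv.Perm (Fin 6)) := by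
  have hsq : ∀ g, sixGen g * sixGen g = 1 := fun g => by
    unfold sixGen; split_ifs <;> exact Equiv.swap_mul_self _ _
  have hrel' : RelSix fun g => (sixGen g, e g) :=
    ⟨fun g => Prod.ext (hsq g) (h.sq g), fun w hw => act_prod_one (sixGen_rels w hw) (h.top w hw)⟩
  have hmtop : Subgroup.closure (sixGen '' {g | g < 5}) = ⊤ := by
    rw [← Subgroup.toSubmonoid_inj, Subgroup.top_toSubmonoid, eq_top_iff,
      ← Equiv.Perm.mclosure_swap_castSucc_succ 5]
    refine (Submonoid.closure_le).2 ?_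
    rintro _ ⟨i, rfl⟩
    refine Subgroup.subset_closure ⟨i, i.isLt, ?_⟩
    rw [sixGen, dif_pos i.isLt]
    rfl
  have hcard : Nat.card (Equiv.Perm (Fin 6)) = 720 := by
    rw [Nat.card_eq_fintype_card, Fintype.card_perm, Fintype.card_fin]; rfl
  obtain ⟨Ψ, hΨ⟩ := exists_hom_of_pairs htop hmtop (hrel'.card_le.trans hcard.ge)
  refine ⟨(MulEquiv.ofBijective Ψ ⟨(MonoidHom.ker_eq_bot_iff Ψ).1 ?_, hΨ⟩).symm⟩
  set A := alternatingGroup (Fin 6)
  haveI : IsSimpleGroup A := alternatingGroup.isSimpleGroup (by simp)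
  haveI hN : (Ψ.ker.subgroupOf A).Normal := Subgroup.Normal.subgroupOf inferInstance _
  have hAi : A.index = 2 := alternatingGroup.index_eq_two
  rcases hN.eq_bot_or_eq_top with hb | ht
  · rw [Subgroup.subgroupOf_eq_bot, disjoint_iff] at hb
    rw [eq_bot_iff]
    intro z hz
    have hcen : ∀ y, y * z = z * y := by
      intro y
      have h1 : y * z * y⁻¹ * z⁻¹ ∈ Ψ.ker :=
        mul_mem ((inferInstance : Ψ.ker.Normal).conj_mem z hz y) (inv_mem hz)
      have h2 : y * z * y⁻¹ * z⁻¹ ∈ A := by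
        simp only [A, Equiv.Perm.mem_alternatingGroup, map_mul, map_inv]
        rw [mul_comm (Equiv.Perm.sign y), mul_assoc (Equiv.Perm.sign z), mul_inv_cancel, mul_one,
          mul_inv_cancel]
      have h3 : y * z * y⁻¹ * z⁻¹ ∈ (⊥ : Subgroup (Equiv.Perm (Fin 6))) := hb ▸ ⟨h1, h2⟩
      rw [Subgroup.mem_bot, mul_inv_eq_one, mul_inv_eq_iff_eq_mul] at h3
      exact h3
    rw [Subgroup.mem_bot]
    refine Equiv.Perm.ext fun i => ?_
    rw [Equiv.Perm.one_apply]
    by_contra hne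
    obtain ⟨j, hji, hjz⟩ : ∃ j, j ≠ i ∧ j ≠ z i :=
      (by decide : ∀ a b : Fin 6, ∃ j, j ≠ a ∧ j ≠ b) i (z i)
    have h4 := congrArg (fun σ : Equiv.Perm (Fin 6) => σ i) (hcen (Equiv.swap i j))
    simp only [Equiv.Perm.mul_apply, Equiv.swap_apply_left,
      Equiv.swap_apply_of_ne_of_ne hne (Ne.symm hjz)] at h4
    exact hji (z.injective h4).symm
  · exfalso
    rw [Subgroup.subgroupOf_eq_top] at ht
    have hd : Nat.card G ∣ 2 := by
      rw [← hAi, ← Nat.card_congr (QuotientGroup.quotientKerEquivOfSurjective Ψ hΨ).toEquiv]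
      exact Subgroup.index_dvd_of_le ht
    have hG2 : Nat.card G = 2 := ((Nat.dvd_prime Nat.prime_two).1 hd).resolve_left
      (Finite.one_lt_card (α := G)).ne'
    haveI : IsCyclic G := by
      haveI : Fact (Nat.Prime 2) := ⟨Nat.prime_two⟩
      exact isCyclic_of_prime_card hG2
    have hcomm : ∀ a b : (⊤ : Subgroup G), a * b = b * a := fun a b =>
      Subtype.ext (by letI := IsCyclic.commGroup (α := G); exact mul_comm a.1 b.1)
    exact top_ne_bot (hsol ⊤ inferInstance (Group.isSolvable_of_comm hcomm))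

end CfsgLib.ThreeTransp.SolLink
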